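import Cfsg.Agent.Helper39.J1Spec.CheckDefs

/-! Kernel-evaluated checks for the spectrum of `J1`: orbit certificates and witnesses. -/

set_option autoImplicit false

namespace Cfsg.Agent.Helper39.J1Spec

open Cfsg.Agent.Helper98.J1

set_option maxRecDepth 1000000 in
set_option maxHeartbeats 0 in
theorem orb_p0 : orbOK 0 770 = true := by decide +kernel

set_option maxRecDepth 1000000 in
set_option maxHeartbeats 0 in
theorem orb_p1 : orbOK 770 770 = true := by decide +kernel

set_option maxRecDepth 1000000 in
set_option maxHeartbeats 0 in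
theorem orb_p2 : orbOK 1540 770 = true := by decide +kernel

set_option maxRecDepth 1000000 in
set_option maxHeartbeats 0 in
theorem orb_p3 : orbOK 2310 770 = true := by decide +kernel

theorem orb_all_spec (i : ℕ) (hi : i < 3080) :
    fld repT 8 i < 68 ∧ fld certT 8 i < 57 ∧ repsList.getD (fld repT 8 i) 0 < 3080 ∧
      (toMat (mats2.getD (fld certT 8 i) 0)).mulVec (toVec (ptOf (m1 i))) =
        toVec (ptOf (m1 (repsList.getD (fld repT 8 i) 0))) := by
  rcases Nat.lt_or_ge i 770 with h | h
  · exact orbOK_spec orb_p0 i (Nat.zero_le _) (by omega)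
  rcases Nat.lt_or_ge i 1540 with h' | h'
  · exact orbOK_spec orb_p1 i h (by omega)
  rcases Nat.lt_or_ge i 2310 with h'' | h''
  · exact orbOK_spec orb_p2 i h' (by omega)
  · exact orbOK_spec orb_p3 i h'' (by omega)

/-- exact-order witness check: `P = U_k * h_e` has `P ^ n = 1` and `P ^ (n / p) ≠ 1` for `p ∈ ps` -/
def witOK (k e n : ℕ) (ps : List ℕ) : Bool :=
  withNat (mulC (m1 k) (mats2.getD e 0)) fun P =>
    powIsOne P n && ps.all fun p => powNeOne P (n / p)

set_option maxRecDepth 1000000 in
set_option maxHeartbeats 0 in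
theorem wit_all :
    (witOK 0 1 19 [19] && witOK 1 0 7 [7] && witOK 1 1 10 [2, 5] && witOK 1 6 6 [2, 3] &&
      witOK 1 7 11 [11] && witOK 1 24 15 [3, 5]) = true := by decide +kernel

end Cfsg.Agent.Helper39.J1Spec
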