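import Cfsg.Agent.Helper39.J1Spec.CheckDefs

/-! Kernel-evaluated order checks for the spectrum of `J1` (part 1 of 4). Small chunks keep the
kernel's memory use low. -/

set_option autoImplicit false

namespace Cfsg.Agent.Helper39.J1Spec

set_option maxRecDepth 1000000 in
set_option maxHeartbeats 0 in
theorem ord_p0 : ordOK 0 2 = true := by decide +kernel

set_option maxRecDepth 1000000 in
set_option maxHeartbeats 0 in
theorem ord_p1 : ordOK 2 2 = true := by decide +kernel

set_option maxRecDepth 1000000 in
set_option maxHeartbeats 0 in
theorem ord_p2 : ordOK 4 2 = true := by decide +kernel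

set_option maxRecDepth 1000000 in
set_option maxHeartbeats 0 in
theorem ord_p3 : ordOK 6 2 = true := by decide +kernel

set_option maxRecDepth 1000000 in
set_option maxHeartbeats 0 in
theorem ord_p4 : ordOK 8 2 = true := by decide +kernel

set_option maxRecDepth 1000000 in
set_option maxHeartbeats 0 in
theorem ord_p5 : ordOK 10 2 = true := by decide +kernel

set_option maxRecDepth 1000000 in
set_option maxHeartbeats 0 in
theorem ord_p6 : ordOK 12 2 = true := by decide +kernel

set_option maxRecDepth 1000000 in
set_option maxHeartbeats 0 in
theorem ord_p7 : ordOK 14 2 = true := by decide +kernel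

set_option maxRecDepth 1000000 in
set_option maxHeartbeats 0 in
theorem ord_p8 : ordOK 16 2 = true := by decide +kernel

end Cfsg.Agent.Helper39.J1Spec
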