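import Cfsg.Agent.Helper39.J1Spec.CheckDefs

/-! Kernel-evaluated order checks for the spectrum of `J1` (part 2 of 4). Small chunks keep the
kernel's memory use low. -/

set_option autoImplicit false

namespace Cfsg.Agent.Helper39.J1Spec

set_option maxRecDepth 1000000 in
set_option maxHeartbeats 0 in
theorem ord_p9 : ordOK 18 2 = true := by decide +kernel

set_option maxRecDepth 1000000 in
set_option maxHeartbeats 0 in
theorem ord_p10 : ordOK 20 2 = true := by decide +kernel

set_option maxRecDepth 1000000 in
set_option maxHeartbeats 0 in
theorem ord_p11 : ordOK 22 2 = true := by decide +kernel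

set_option maxRecDepth 1000000 in
set_option maxHeartbeats 0 in
theorem ord_p12 : ordOK 24 2 = true := by decide +kernel

set_option maxRecDepth 1000000 in
set_option maxHeartbeats 0 in
theorem ord_p13 : ordOK 26 2 = true := by decide +kernel

set_option maxRecDepth 1000000 in
set_option maxHeartbeats 0 in
theorem ord_p14 : ordOK 28 2 = true := by decide +kernel

set_option maxRecDepth 1000000 in
set_option maxHeartbeats 0 in
theorem ord_p15 : ordOK 30 2 = true := by decide +kernel

set_option maxRecDepth 1000000 in
set_option maxHeartbeats 0 in
theorem ord_p16 : ordOK 32 2 = true := by decide +kernel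

set_option maxRecDepth 1000000 in
set_option maxHeartbeats 0 in
theorem ord_p17 : ordOK 34 2 = true := by decide +kernel

end Cfsg.Agent.Helper39.J1Spec
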