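import Cfsg.Agent.Helper39.J1Spec.CheckDefs

/-! Kernel-evaluated order checks for the spectrum of `J1` (part 3 of 4). Small chunks keep the
kernel's memory use low. -/

set_option autoImplicit false

namespace Cfsg.Agent.Helper39.J1Spec

set_option maxRecDepth 1000000 in
set_option maxHeartbeats 0 in
theorem ord_p18 : ordOK 36 2 = true := by decide +kernel

set_option maxRecDepth 1000000 in
set_option maxHeartbeats 0 in
theorem ord_p19 : ordOK 38 2 = true := by decide +kernel

set_option maxRecDepth 1000000 in
set_option maxHeartbeats 0 in
theorem ord_p20 : ordOK 40 2 = true := by decide +kernel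

set_option maxRecDepth 1000000 in
set_option maxHeartbeats 0 in
theorem ord_p21 : ordOK 42 2 = true := by decide +kernel

set_option maxRecDepth 1000000 in
set_option maxHeartbeats 0 in
theorem ord_p22 : ordOK 44 2 = true := by decide +kernel

set_option maxRecDepth 1000000 in
set_option maxHeartbeats 0 in
theorem ord_p23 : ordOK 46 2 = true := by decide +kernel

set_option maxRecDepth 1000000 in
set_option maxHeartbeats 0 in
theorem ord_p24 : ordOK 48 2 = true := by decide +kernel

set_option maxRecDepth 1000000 in
set_option maxHeartbeats 0 in
theorem ord_p25 : ordOK 50 2 = true := by decide +kernel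

end Cfsg.Agent.Helper39.J1Spec
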