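import Cfsg.Agent.Helper39.J1Spec.CheckDefs

/-! Kernel-evaluated order checks for the spectrum of `J1` (part 4 of 4). Small chunks keep the
kernel's memory use low. -/

set_option autoImplicit false

namespace Cfsg.Agent.Helper39.J1Spec

set_option maxRecDepth 1000000 in
set_option maxHeartbeats 0 in
theorem ord_p26 : ordOK 52 2 = true := by decide +kernel

set_option maxRecDepth 1000000 in
set_option maxHeartbeats 0 in
theorem ord_p27 : ordOK 54 2 = true := by decide +kernel

set_option maxRecDepth 1000000 in
set_option maxHeartbeats 0 in
theorem ord_p28 : ordOK 56 2 = true := by decide +kernel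

set_option maxRecDepth 1000000 in
set_option maxHeartbeats 0 in
theorem ord_p29 : ordOK 58 2 = true := by decide +kernel

set_option maxRecDepth 1000000 in
set_option maxHeartbeats 0 in
theorem ord_p30 : ordOK 60 2 = true := by decide +kernel

set_option maxRecDepth 1000000 in
set_option maxHeartbeats 0 in
theorem ord_p31 : ordOK 62 2 = true := by decide +kernel

set_option maxRecDepth 1000000 in
set_option maxHeartbeats 0 in
theorem ord_p32 : ordOK 64 2 = true := by decide +kernel

set_option maxRecDepth 1000000 in
set_option maxHeartbeats 0 in
theorem ord_p33 : ordOK 66 2 = true := by decide +kernel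

end Cfsg.Agent.Helper39.J1Spec
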