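import Cfsg.Agent.Helper39.J1Spec.Enc
import Cfsg.Agent.Helper39.J1Spec.Data

/-!
# Boolean checks for the spectrum of `J1` (helper39, for S3627)
-/

set_option autoImplicit false

namespace Cfsg.Agent.Helper39.J1Spec

open Cfsg.Agent.Helper98.J1 Matrix

/-- the maximal element orders and their divisors -/
def allowedList : List ℕ := [1, 2, 3, 5, 6, 7, 10, 11, 15, 19]

/-- the image of the base vector under the matrix with code `A`, as a list -/
def ptOf (A : ℕ) : List ℕ := (List.range 7).map fun t => mve A beta1 t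

theorem ptOf_spec (A : ℕ) : (toMat A).mulVec (toVec beta1) = toVec (ptOf A) := by
  apply eqMulVec_spec
  simp only [eqMulVec, List.all_eq_true, List.mem_range, beq_iff_eq]
  intro i hi
  rw [ptOf, List.getD_eq_getElem _ _ (by simpa using hi)]
  simp only [List.getElem_map, List.getElem_range]
  unfold mve
  rw [Nat.mod_mod]

/-- orbit certificate: `h_c` moves point `i` to the representative point -/
def orbOK (lo len : ℕ) : Bool :=
  (List.range' lo len).all fun i =>
    withNat (fld repT 8 i) fun r => withNat (fld certT 8 i) fun c =>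
      withNat (repsList.getD r 0) fun k =>
        decide (r < 68) && decide (c < 57) && decide (k < 3080) &&
          eqMulVec (mats2.getD c 0) (ptOf (m1 i)) (ptOf (m1 k))

theorem orbOK_spec {lo len : ℕ} (h : orbOK lo len = true) (i : ℕ) (h1 : lo ≤ i) (h2 : i < lo + len) :
    fld repT 8 i < 68 ∧ fld certT 8 i < 57 ∧ repsList.getD (fld repT 8 i) 0 < 3080 ∧
      (toMat (mats2.getD (fld certT 8 i) 0)).mulVec (toVec (ptOf (m1 i))) =
        toVec (ptOf (m1 (repsList.getD (fld repT 8 i) 0))) := by
  simp only [orbOK, List.all_eq_true, List.mem_range'_1, withNat_eq, Bool.and_eq_true,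
    decide_eq_true_eq] at h
  obtain ⟨⟨⟨h3, h4⟩, h5⟩, h6⟩ := h i ⟨h1, h2⟩
  exact ⟨h3, h4, h5, eqMulVec_spec h6⟩

/-- order check for the cosets `U_k H`, `k = repsList[r]`, `lo ≤ r < lo + len` -/
def ordOK (lo len : ℕ) : Bool :=
  (List.range' lo len).all fun r =>
    withNat (m1 (repsList.getD r 0)) fun U =>
      (List.range 57).all fun e =>
        withNat (mulC U (mats2.getD e 0)) fun P =>
          withNat (fld ordT 8 (57 * r + e)) fun n =>
            allowedList.contains n && powIsOne P n

theorem ordOK_spec {lo len : ℕ} (h : ordOK lo len = true) (r : ℕ) (h1 : lo ≤ r) (h2 : r < lo + len)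
    (e : ℕ) (he : e < 57) :
    fld ordT 8 (57 * r + e) ∈ allowedList ∧
      (toMat (m1 (repsList.getD r 0)) * toMat (mats2.getD e 0)) ^ fld ordT 8 (57 * r + e) = 1 := by
  simp only [ordOK, List.all_eq_true, List.mem_range'_1, List.mem_range, withNat_eq,
    Bool.and_eq_true, List.contains_iff_mem] at h
  obtain ⟨h3, h4⟩ := h r ⟨h1, h2⟩ e he
  refine ⟨h3, ?_⟩
  rw [← toMat_mulC]
  exact powIsOne_spec h4

end Cfsg.Agent.Helper39.J1Spec
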