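import Cfsg.Agent.Helper98.J1Card

/-!
# Packed products and powers of `7 × 7` matrices over `ZMod 11` (helper39, for S3627)

On top of `Cfsg.Agent.Helper98.J1` (packed matrices `toMat`, entries `ent`, product entries `pe`).
-/

set_option autoImplicit false

namespace Cfsg.Agent.Helper39.J1Spec

open Cfsg.Agent.Helper98.J1 Matrix

/-- Horner packing of a list of base-16 digits -/
def packL : List ℕ → ℕ
  | [] => 0
  | d :: l => d + 16 * packL l

theorem packL_digit (l : List ℕ) (hl : ∀ d ∈ l, d < 16) (s : ℕ) :
    packL l / 16 ^ s % 16 = l.getD s 0 := by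
  induction l generalizing s with
  | nil => simp [packL]
  | cons d l ih =>
    have hd : d < 16 := hl d (by simp)
    have hl' : ∀ x ∈ l, x < 16 := fun x hx => hl x (by simp [hx])
    cases s with
    | zero =>
      simp only [packL, pow_zero, Nat.div_one, List.getD_cons_zero]
      omega
    | succ s =>
      have h0 : (d + 16 * packL l) / 16 = packL l := by omega
      have h1 : (d + 16 * packL l) / 16 ^ (s + 1) = packL l / 16 ^ s := by
        rw [pow_succ', ← Nat.div_div_eq_div_mul, h0]
      simp only [packL, List.getD_cons_succ]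
      rw [h1]
      exact ih hl' s

/-- the packed product -/
def mulC (A B : ℕ) : ℕ := packL ((List.range 49).map fun t => pe A B (t / 7) (t % 7))

theorem pe_lt (A B i j : ℕ) : pe A B i j < 16 := by
  unfold pe
  omega

theorem ent_eq (A i j : ℕ) : ent A i j = A / 16 ^ (7 * i + j) % 16 := by
  unfold ent
  rw [Nat.shiftRight_eq_div_pow]
  have h15 : (15 : ℕ) = 2 ^ 4 - 1 := by norm_num
  rw [h15, Nat.and_two_pow_sub_one_eq_mod]
  have : (2 : ℕ) ^ (28 * i + 4 * j) = 16 ^ (7 * i + j) := by
    have h16 : (16 : ℕ) = 2 ^ 4 := by norm_num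
    rw [h16, ← pow_mul]
    congr 1
    ring
  rw [this]

theorem ent_mulC (A B : ℕ) (i j : ℕ) (hi : i < 7) (hj : j < 7) :
    ent (mulC A B) i j = pe A B i j := by
  rw [ent_eq, mulC, packL_digit]
  · have ht : 7 * i + j < 49 := by omega
    rw [List.getD_eq_getElem _ _ (by simpa using ht)]
    simp only [List.getElem_map, List.getElem_range]
    have h1 : (7 * i + j) / 7 = i := by omega
    have h2 : (7 * i + j) % 7 = j := by omega
    rw [h1, h2]
  · intro d hd
    simp only [List.mem_map, List.mem_range] at hd
    obtain ⟨t, -, rfl⟩ := hd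
    exact pe_lt _ _ _ _

theorem toMat_mulC (A B : ℕ) : toMat (mulC A B) = toMat A * toMat B := by
  ext i j
  rw [toMat_mul_apply]
  show ((ent (mulC A B) i j : ℕ) : ZMod 11) = _
  rw [ent_mulC A B i j i.isLt j.isLt]

/-- evaluate a natural number first -/
def withNatN (v : ℕ) (f : ℕ → ℕ) : ℕ :=
  match v + 1 with
  | 0 => 0
  | n + 1 => f n

theorem withNatN_eq (v : ℕ) (f : ℕ → ℕ) : withNatN v f = f v := rfl

/-- square-and-multiply along a list of bits (most significant first, leading `1` dropped) -/
def powBits (P : ℕ) : List Bool → ℕ → ℕ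
  | [], acc => acc
  | b :: bs, acc =>
    withNatN (mulC acc acc) fun sq =>
      if b then withNatN (mulC sq P) fun sq' => powBits P bs sq' else powBits P bs sq

/-- the exponent computed by `powBits` -/
def expBits : List Bool → ℕ → ℕ
  | [], e => e
  | b :: bs, e => expBits bs (2 * e + (if b then 1 else 0))

theorem toMat_powBits (P : ℕ) (bs : List Bool) (acc e : ℕ) (h : toMat acc = toMat P ^ e) :
    toMat (powBits P bs acc) = toMat P ^ expBits bs e := by
  induction bs generalizing acc e with
  | nil => simpa [powBits, expBits] using h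
  | cons b bs ih =>
    simp only [powBits, withNatN_eq, expBits]
    cases b with
    | false =>
      simp only [Bool.false_eq_true, if_false, add_zero]
      apply ih
      rw [toMat_mulC, h, ← pow_add, two_mul]
    | true =>
      simp only [if_true]
      apply ih
      rw [toMat_mulC, toMat_mulC, h, ← pow_add, ← pow_succ, two_mul]

/-- bits of `n` after the leading one, most significant first -/
def bitsAux : ℕ → ℕ → List Bool → List Bool
  | 0, _, acc => acc
  | f + 1, n, acc => if n ≤ 1 then acc else bitsAux f (n / 2) ((n % 2 == 1) :: acc)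

/-- `P ^ n = 1` as a Boolean check -/
def powIsOne (P n : ℕ) : Bool :=
  let bs := bitsAux 8 n []
  (expBits bs 1 == n) && (powBits P bs P == idCode)

theorem powIsOne_spec {P n : ℕ} (h : powIsOne P n = true) : toMat P ^ n = 1 := by
  simp only [powIsOne, Bool.and_eq_true, beq_iff_eq] at h
  obtain ⟨h1, h2⟩ := h
  have := toMat_powBits P (bitsAux 8 n []) P 1 (by rw [pow_one])
  rw [h2, h1, toMat_idCode] at this
  exact this.symm

/-- the matrix of a code is not the identity (Boolean check on one entry) -/
def neOne (c : ℕ) : Bool :=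
  (List.range 7).any fun i => (List.range 7).any fun j =>
    ent c i j % 11 != (if i == j then 1 else 0)

theorem neOne_spec {c : ℕ} (h : neOne c = true) : toMat c ≠ 1 := by
  simp only [neOne, List.any_eq_true, List.mem_range, bne_iff_ne, ne_eq] at h
  obtain ⟨i, hi, j, hj, hne⟩ := h
  intro h1
  apply hne
  have h2 := congrFun (congrFun h1 ⟨i, hi⟩) ⟨j, hj⟩
  simp only [toMat, Matrix.one_apply, Fin.mk.injEq] at h2
  by_cases hij : i = j
  · subst hij
    simp only [if_true] at h2
    simp only [beq_self_eq_true, if_true]
    have h3 : ((ent c i i : ℕ) : ZMod 11) = ((1 : ℕ) : ZMod 11) := by simpa using h2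
    have := (ZMod.natCast_eq_natCast_iff' _ _ _).1 h3
    simpa using this
  · simp only [hij, if_false] at h2
    have hb : (i == j) = false := by simpa using hij
    simp only [hb]
    have h3 : ((ent c i j : ℕ) : ZMod 11) = ((0 : ℕ) : ZMod 11) := by simpa using h2
    have := (ZMod.natCast_eq_natCast_iff' _ _ _).1 h3
    simpa using this

/-- `P ^ n ≠ 1` as a Boolean check -/
def powNeOne (P n : ℕ) : Bool :=
  let bs := bitsAux 8 n []
  (expBits bs 1 == n) && neOne (powBits P bs P)

theorem powNeOne_spec {P n : ℕ} (h : powNeOne P n = true) : toMat P ^ n ≠ 1 := by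
  simp only [powNeOne, Bool.and_eq_true, beq_iff_eq] at h
  obtain ⟨h1, h2⟩ := h
  have := toMat_powBits P (bitsAux 8 n []) P 1 (by rw [pow_one])
  rw [h1] at this
  rw [← this]
  exact neOne_spec h2

end Cfsg.Agent.Helper39.J1Spec
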