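import Cfsg.Agent.Helper39.J1Spec.Spectrum
import Cfsg.Agent.S3444

/-!
# Groups of arbitrarily large order with the spectrum of `J1 × J1 × J1 × J1` (helper39, for S3627)

`ω(J1⁴)` is the set of proper divisors of `43890 = 2·3·5·7·11·19`, and so is `ω(J1³ × D₁₄)`: the
dihedral group of order 14 supplies `7` together with `2`, but not `14`.  The latter group has a
non-trivial abelian normal subgroup, so `S3444` applies.
-/

set_option autoImplicit false

namespace Cfsg.Agent.Helper39.J1Spec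

open Cfsg Cfsg.Spor

/-- the lcm of four numbers -/
def lcm4 (a b c d : ℕ) : ℕ := Nat.lcm a (Nat.lcm b (Nat.lcm c d))

/-- spectrum of `D₁₄` -/
def specD : Finset ℕ := {1, 2, 7}

/-- the proper divisors of `43890` -/
def properDiv : Finset ℕ :=
  {1, 2, 3, 5, 6, 7, 10, 11, 14, 15, 19, 21, 22, 30, 33, 35, 38, 42, 55, 57, 66, 70, 77, 95, 105,
    110, 114, 133, 154, 165, 190, 209, 210, 231, 266, 285, 330, 385, 399, 418, 462, 570, 627, 665,
    770, 798, 1045, 1155, 1254, 1330, 1463, 1995, 2090, 2310, 2926, 3135, 3990, 4389, 6270, 7315,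
    8778, 14630, 21945}

set_option maxRecDepth 100000 in
theorem lcm4_mem_properDiv : ∀ a ∈ specJ1, ∀ b ∈ specJ1, ∀ c ∈ specJ1, ∀ d ∈ specJ1,
    lcm4 a b c d ∈ properDiv := by decide +kernel

set_option maxRecDepth 100000 in
theorem properDiv_witness : ∀ n ∈ properDiv, ∃ a ∈ specJ1, ∃ b ∈ specJ1, ∃ c ∈ specJ1,
    ∃ m ∈ specD, lcm4 a b c m = n := by decide +kernel

theorem specD_subset : ∀ m ∈ specD, m ∈ specJ1 := by decide

/-- spectrum of a fourfold product -/
theorem range_orderOf_prod4 {A B C D : Type*} [Group A] [Group B] [Group C] [Group D]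
    (SA SB SC SD : Set ℕ) (hA : Set.range (orderOf : A → ℕ) = SA)
    (hB : Set.range (orderOf : B → ℕ) = SB) (hC : Set.range (orderOf : C → ℕ) = SC)
    (hD : Set.range (orderOf : D → ℕ) = SD) :
    Set.range (orderOf : A × B × C × D → ℕ) =
      {n | ∃ a ∈ SA, ∃ b ∈ SB, ∃ c ∈ SC, ∃ d ∈ SD, lcm4 a b c d = n} := by
  ext n
  constructor
  · rintro ⟨⟨a, b, c, d⟩, rfl⟩
    refine ⟨orderOf a, hA ▸ ⟨a, rfl⟩, orderOf b, hB ▸ ⟨b, rfl⟩, orderOf c, hC ▸ ⟨c, rfl⟩,
      orderOf d, hD ▸ ⟨d, rfl⟩, ?_⟩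
    simp only [lcm4, Prod.orderOf]
  · rintro ⟨oa, ha, ob, hb, oc, hc, od, hd, rfl⟩
    rw [← hA] at ha
    rw [← hB] at hb
    rw [← hC] at hc
    rw [← hD] at hd
    obtain ⟨a, rfl⟩ := ha
    obtain ⟨b, rfl⟩ := hb
    obtain ⟨c, rfl⟩ := hc
    obtain ⟨d, rfl⟩ := hd
    exact ⟨(a, b, c, d), by simp only [lcm4, Prod.orderOf]⟩

theorem range_orderOf_dihedral :
    Set.range (orderOf : DihedralGroup 7 → ℕ) = (specD : Set ℕ) := by
  ext d
  constructor
  · rintro ⟨x, rfl⟩
    cases x with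
    | r i =>
      rw [DihedralGroup.orderOf_r]
      simp only [specD, Finset.coe_insert, Finset.coe_singleton, Set.mem_insert_iff,
        Set.mem_singleton_iff]
      fin_cases i <;> decide
    | sr i =>
      rw [DihedralGroup.orderOf_sr]
      simp [specD]
  · intro hd
    simp only [specD, Finset.coe_insert, Finset.coe_singleton, Set.mem_insert_iff,
      Set.mem_singleton_iff] at hd
    rcases hd with rfl | rfl | rfl
    · exact ⟨1, orderOf_one⟩
    · exact ⟨DihedralGroup.sr 0, DihedralGroup.orderOf_sr 0⟩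
    · exact ⟨DihedralGroup.r 1, DihedralGroup.orderOf_r_one⟩

/-- the group with a soluble normal subgroup -/
abbrev G0 : Type := ↥Cfsg.Spor.J1 × ↥Cfsg.Spor.J1 × ↥Cfsg.Spor.J1 × DihedralGroup 7

/-- the fourth power of `J1` -/
abbrev G1 : Type := ↥Cfsg.Spor.J1 × ↥Cfsg.Spor.J1 × ↥Cfsg.Spor.J1 × ↥Cfsg.Spor.J1

theorem range_G0_eq_G1 :
    Set.range (orderOf : G0 → ℕ) = Set.range (orderOf : G1 → ℕ) := by
  rw [range_orderOf_prod4 _ _ _ _ j1_spectrum j1_spectrum j1_spectrum range_orderOf_dihedral,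
    range_orderOf_prod4 _ _ _ _ j1_spectrum j1_spectrum j1_spectrum j1_spectrum]
  ext n
  constructor
  · rintro ⟨a, ha, b, hb, c, hc, m, hm, rfl⟩
    exact ⟨a, ha, b, hb, c, hc, m, Finset.mem_coe.mpr (specD_subset m (Finset.mem_coe.mp hm)), rfl⟩
  · rintro ⟨a, ha, b, hb, c, hc, d, hd, rfl⟩
    have h1 := lcm4_mem_properDiv a (Finset.mem_coe.mp ha) b (Finset.mem_coe.mp hb) c
      (Finset.mem_coe.mp hc) d (Finset.mem_coe.mp hd)
    obtain ⟨a', ha', b', hb', c', hc', m, hm, h2⟩ := properDiv_witness _ h1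
    exact ⟨a', Finset.mem_coe.mpr ha', b', Finset.mem_coe.mpr hb', c', Finset.mem_coe.mpr hc', m,
      Finset.mem_coe.mpr hm, h2⟩

/-- the sign of a dihedral element -/
def sgnD : DihedralGroup 7 →* ℤˣ where
  toFun x := match x with
    | DihedralGroup.r _ => 1
    | DihedralGroup.sr _ => -1
  map_one' := rfl
  map_mul' := by
    rintro (i | i) (j | j) <;> simp

/-- the projection killing the rotations of the last factor -/
def psi : G0 →* (↥Cfsg.Spor.J1 × ↥Cfsg.Spor.J1 × ↥Cfsg.Spor.J1 × ℤˣ) :=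
  MonoidHom.prodMap (MonoidHom.id _) (MonoidHom.prodMap (MonoidHom.id _)
    (MonoidHom.prodMap (MonoidHom.id _) sgnD))

theorem mem_ker_psi (x : G0) : x ∈ psi.ker ↔ ∃ i : ZMod 7, x = (1, 1, 1, DihedralGroup.r i) := by
  obtain ⟨a, b, c, d⟩ := x
  rw [MonoidHom.mem_ker]
  have hpsi : psi (a, b, c, d) = (a, b, c, sgnD d) := rfl
  rw [hpsi]
  constructor
  · intro h
    have ha : a = 1 := congrArg Prod.fst h
    have hb : b = 1 := congrArg (fun x => x.2.1) h
    have hc : c = 1 := congrArg (fun x => x.2.2.1) h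
    have hd : sgnD d = 1 := congrArg (fun x => x.2.2.2) h
    subst ha hb hc
    cases d with
    | r i => exact ⟨i, rfl⟩
    | sr i =>
      exfalso
      have h1 : (-1 : ℤˣ) = 1 := hd
      revert h1
      decide
  · rintro ⟨i, h⟩
    simp only [Prod.mk.injEq] at h
    obtain ⟨rfl, rfl, rfl, rfl⟩ := h
    rfl

theorem main (N : ℕ) : ∃ (H : Type) (_ : Group H) (_ : Fintype H), N < Fintype.card H ∧
    Set.range (orderOf : H → ℕ) = Set.range (orderOf : G1 → ℕ) := by
  have hne : psi.ker ≠ ⊥ := by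
    intro h
    have hm : ((1, 1, 1, DihedralGroup.r 1) : G0) ∈ psi.ker := (mem_ker_psi _).mpr ⟨1, rfl⟩
    rw [h, Subgroup.mem_bot] at hm
    have h4 := congrArg (fun x : G0 => x.2.2.2) hm
    simp only at h4
    revert h4
    decide
  have hsol : Group.IsSolvable ↥psi.ker := by
    apply Group.isSolvable_of_comm
    rintro ⟨x, hx⟩ ⟨y, hy⟩
    obtain ⟨i, rfl⟩ := (mem_ker_psi x).mp hx
    obtain ⟨j, rfl⟩ := (mem_ker_psi y).mp hy
    apply Subtype.ext
    simp [add_comm]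
  obtain ⟨H, hG, hF, hcard, hrange⟩ := Cfsg.Agent.S3444.result (G := G0) psi.ker hne hsol N
  exact ⟨H, hG, hF, hcard, hrange.trans range_G0_eq_G1⟩

end Cfsg.Agent.Helper39.J1Spec
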