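import Cfsg.Agent.Helper39.J1Spec.Check0
import Cfsg.Agent.Helper39.J1Spec.Check1
import Cfsg.Agent.Helper39.J1Spec.Check2
import Cfsg.Agent.Helper39.J1Spec.Check3
import Cfsg.Agent.Helper39.J1Spec.Check4

/-!
# The set of element orders of `J1` (helper39, for S3627)

Every element of `J1` is `U_i * h` with `i < 3080`, `h ∈ H` (`Helper98.J1.J1_structure`); conjugating
by a suitable element of `H` we may take `i` in a set of 68 representatives of the `H`-orbits on the
3080 points, and the orders of those `68 * 57` elements are checked by kernel evaluation.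
-/

set_option autoImplicit false

namespace Cfsg.Agent.Helper39.J1Spec

open Cfsg Cfsg.Spor Cfsg.Agent.Helper98.J1 Matrix

theorem ord_chunk : ∀ j < 34, ordOK (2 * j) 2 = true := by
  intro j hj
  interval_cases j
  · exact ord_p0
  · exact ord_p1
  · exact ord_p2
  · exact ord_p3
  · exact ord_p4
  · exact ord_p5
  · exact ord_p6
  · exact ord_p7
  · exact ord_p8
  · exact ord_p9
  · exact ord_p10
  · exact ord_p11
  · exact ord_p12
  · exact ord_p13
  · exact ord_p14
  · exact ord_p15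
  · exact ord_p16
  · exact ord_p17
  · exact ord_p18
  · exact ord_p19
  · exact ord_p20
  · exact ord_p21
  · exact ord_p22
  · exact ord_p23
  · exact ord_p24
  · exact ord_p25
  · exact ord_p26
  · exact ord_p27
  · exact ord_p28
  · exact ord_p29
  · exact ord_p30
  · exact ord_p31
  · exact ord_p32
  · exact ord_p33

theorem ord_spec (r : ℕ) (hr : r < 68) (e : ℕ) (he : e < 57) :
    fld ordT 8 (57 * r + e) ∈ allowedList ∧
      (toMat (m1 (repsList.getD r 0)) * toMat (mats2.getD e 0)) ^ fld ordT 8 (57 * r + e) = 1 :=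
  ordOK_spec (ord_chunk (r / 2) (by omega)) r (by omega) (by omega) e he

/-- every element of `J1` is killed by one of the allowed exponents -/
theorem exists_pow_eq_one (g : G7) (hg : g ∈ J1) : ∃ n ∈ allowedList, g ^ n = 1 := by
  obtain ⟨-, H, hHJ, -, hstab, hHelts, hHrep, hfact⟩ := J1_structure
  obtain ⟨i, hi, h, hh, u, hu, hue, rfl⟩ := hfact g hg
  obtain ⟨hr, hc, hk, hmv⟩ := orb_all_spec i hi
  set r := fld repT 8 i with hrdef
  set c := fld certT 8 i with hcdef
  set k := repsList.getD r 0 with hkdef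
  obtain ⟨s, hsH, hse⟩ := hHrep c hc
  obtain ⟨u', hu', hu'e⟩ := rep1 k hk
  have e1 : u • toVec beta1 = toVec (ptOf (m1 i)) := by
    rw [smul_eq, hue]; exact ptOf_spec _
  have e2 : s • toVec (ptOf (m1 i)) = toVec (ptOf (m1 k)) := by
    rw [smul_eq, hse]; exact hmv
  have e3 : u' • toVec beta1 = toVec (ptOf (m1 k)) := by
    rw [smul_eq, hu'e]; exact ptOf_spec _
  have hw : u'⁻¹ * s * u ∈ H := by
    rw [← hstab]
    refine Subgroup.mem_inf.mpr ⟨J1.mul_mem (J1.mul_mem (J1.inv_mem hu') (hHJ hsH)) hu, ?_⟩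
    rw [MulAction.mem_stabilizer_iff, mul_smul, mul_smul, e1, e2, ← e3, inv_smul_smul]
  have hh'H : u'⁻¹ * s * u * h * s⁻¹ ∈ H := H.mul_mem (H.mul_mem hw hh) (H.inv_mem hsH)
  obtain ⟨e, he, hee⟩ := hHelts _ hh'H
  obtain ⟨hn, hpow⟩ := ord_spec r hr e he
  refine ⟨_, hn, ?_⟩
  have hconj : s * (u * h) * s⁻¹ = u' * (u'⁻¹ * s * u * h * s⁻¹) := by group
  have h1 : (u' * (u'⁻¹ * s * u * h * s⁻¹)) ^ (fld ordT 8 (57 * r + e)) = 1 := by
    apply Units.ext
    rw [Units.val_pow_eq_pow_val, Units.val_mul, hu'e, hee, Units.val_one]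
    exact hpow
  rw [← hconj, conj_pow] at h1
  exact conj_eq_one_iff.mp h1

/-- an element of `J1` of exact order `n` from a witness check -/
theorem wit_spec {k e n : ℕ} {ps : List ℕ} (hk : k < 3080) (he : e < 57) (hn : 0 < n)
    (hps : ∀ p : ℕ, p.Prime → p ∣ n → p ∈ ps) (h : witOK k e n ps = true) :
    ∃ g ∈ J1, orderOf g = n := by
  obtain ⟨-, H, hHJ, -, -, -, hHrep, -⟩ := J1_structure
  simp only [witOK, withNat_eq, Bool.and_eq_true, List.all_eq_true] at h
  obtain ⟨h1, h2⟩ := h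
  have hrep : Rep J1 (mulC (m1 k) (mats2.getD e 0)) :=
    Rep.mul (rep1 k hk) (Rep.mono hHJ (hHrep e he)) (toMat_mulC _ _).symm
  obtain ⟨g, hgJ, hge⟩ := hrep
  refine ⟨g, hgJ, ?_⟩
  apply orderOf_eq_of_pow_and_pow_div_prime hn
  · apply Units.ext
    rw [Units.val_pow_eq_pow_val, hge, Units.val_one]
    exact powIsOne_spec h1
  · intro p hp hpn hg1
    have h3 := powNeOne_spec (h2 p (hps p hp hpn))
    apply h3
    have := congrArg Units.val hg1
    rwa [Units.val_pow_eq_pow_val, hge, Units.val_one] at this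

theorem wit_facts :
    witOK 0 1 19 [19] = true ∧ witOK 1 0 7 [7] = true ∧ witOK 1 1 10 [2, 5] = true ∧
      witOK 1 6 6 [2, 3] = true ∧ witOK 1 7 11 [11] = true ∧ witOK 1 24 15 [3, 5] = true := by
  have h := wit_all
  simp only [Bool.and_eq_true] at h
  obtain ⟨⟨⟨⟨⟨h1, h2⟩, h3⟩, h4⟩, h5⟩, h6⟩ := h
  exact ⟨h1, h2, h3, h4, h5, h6⟩

/-- the maximal element orders occur -/
theorem exists_orderOf_max (n : ℕ) (hn : n ∈ [6, 7, 10, 11, 15, 19]) : ∃ g ∈ J1, orderOf g = n := by
  obtain ⟨w19, w7, w10, w6, w11, w15⟩ := wit_facts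
  have hpr : ∀ (m : ℕ) (ps : List ℕ), 0 < m → m ≤ 19 →
      (∀ p ∈ List.range 20, p.Prime → p ∣ m → p ∈ ps) → ∀ p : ℕ, p.Prime → p ∣ m → p ∈ ps := by
    intro m ps hm hm19 hall p hp hd
    have := Nat.le_of_dvd hm hd
    exact hall p (List.mem_range.mpr (by omega)) hp hd
  simp only [List.mem_cons, List.not_mem_nil, or_false] at hn
  rcases hn with rfl | rfl | rfl | rfl | rfl | rfl
  · exact wit_spec (by norm_num) (by norm_num) (by norm_num)
      (hpr 6 _ (by norm_num) (by norm_num) (by decide)) w6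
  · exact wit_spec (by norm_num) (by norm_num) (by norm_num)
      (hpr 7 _ (by norm_num) (by norm_num) (by decide)) w7
  · exact wit_spec (by norm_num) (by norm_num) (by norm_num)
      (hpr 10 _ (by norm_num) (by norm_num) (by decide)) w10
  · exact wit_spec (by norm_num) (by norm_num) (by norm_num)
      (hpr 11 _ (by norm_num) (by norm_num) (by decide)) w11
  · exact wit_spec (by norm_num) (by norm_num) (by norm_num)
      (hpr 15 _ (by norm_num) (by norm_num) (by decide)) w15
  · exact wit_spec (by norm_num) (by norm_num) (by norm_num)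
      (hpr 19 _ (by norm_num) (by norm_num) (by decide)) w19

/-- the spectrum of `J1` as a finset -/
def specJ1 : Finset ℕ := {1, 2, 3, 5, 6, 7, 10, 11, 15, 19}

theorem dvd_allowed : ∀ n ∈ allowedList, ∀ d ∈ Nat.divisors n, d ∈ specJ1 := by decide

theorem exists_max : ∀ d ∈ specJ1, ∃ n ∈ [6, 7, 10, 11, 15, 19], d ∣ n := by decide

/-- The set of element orders of `J1`. -/
theorem j1_spectrum : Set.range (orderOf : ↥Cfsg.Spor.J1 → ℕ) = (specJ1 : Set ℕ) := by
  ext d
  constructor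
  · rintro ⟨x, rfl⟩
    obtain ⟨n, hn, hpow⟩ := exists_pow_eq_one x.1 x.2
    have hd : orderOf (x : G7) ∣ n := orderOf_dvd_of_pow_eq_one hpow
    rw [Subgroup.orderOf_coe] at hd
    have hn0 : n ≠ 0 := by
      intro h0
      rw [h0] at hn
      revert hn
      decide
    exact dvd_allowed n hn _ (Nat.mem_divisors.mpr ⟨hd, hn0⟩)
  · intro hd
    obtain ⟨n, hn, hdn⟩ := exists_max d hd
    obtain ⟨g, hgJ, hgo⟩ := exists_orderOf_max n hn
    have hn0 : 0 < n := by
      rw [← hgo]
      exact orderOf_pos_iff.mpr (isOfFinOrder_of_finite g)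
    have hd0 : 0 < d := Nat.pos_of_dvd_of_pos hdn hn0
    refine ⟨⟨g, hgJ⟩ ^ (n / d), ?_⟩
    have h1 : orderOf ((⟨g, hgJ⟩ : ↥Cfsg.Spor.J1)) = n := by
      rw [← Subgroup.orderOf_coe]; exact hgo
    have h2 : n / d ≠ 0 := by
      have := Nat.div_pos (Nat.le_of_dvd hn0 hdn) hd0
      omega
    rw [orderOf_pow_of_dvd h2 (by rw [h1]; exact Nat.div_dvd_of_dvd hdn), h1,
      Nat.div_div_self hdn hn0.ne']

end Cfsg.Agent.Helper39.J1Spec
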